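import Mathlib

/-!
Fixed-point counting for a subgroup all of whose non-identity elements fix equally many points.
-/

set_option autoImplicit false

namespace Cfsg.Agent.ChevSmall.FixCount

open MulAction

variable {G Ω : Type*} [Group G] [MulAction G Ω]

/-- The number of fixed points. -/
noncomputable def fix (Ω : Type*) [MulAction G Ω] (g : G) : ℕ := Nat.card ↥(fixedBy Ω g)

theorem fix_le [Finite Ω] (g : G) : fix Ω g ≤ Nat.card Ω := Finite.card_subtype_le _

theorem fix_conj (g x : G) : fix Ω (g * x * g⁻¹) = fix Ω x := by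
  refine Nat.card_congr
    { toFun := fun p => ⟨g⁻¹ • p.1, ?_⟩
      invFun := fun p => ⟨g • p.1, ?_⟩
      left_inv := fun p => Subtype.ext (smul_inv_smul g p.1)
      right_inv := fun p => Subtype.ext (inv_smul_smul g p.1) }
  · have h : (g * x * g⁻¹) • p.1 = p.1 := p.2
    rw [mul_smul, mul_smul, smul_eq_iff_eq_inv_smul] at h
    exact h
  · show (g * x * g⁻¹) • g • p.1 = g • p.1
    rw [← mul_smul, inv_mul_cancel_right, mul_smul]
    exact congrArg (g • ·) p.2

theorem smul_pow_eq (x : G) (p : Ω) (h : x • p = p) (m : ℕ) : (x ^ m) • p = p := by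
  induction m with
  | zero => simp
  | succ m ih => rw [pow_succ, mul_smul, h, ih]

theorem fix_eq_of_pow (x y : G) (m m' : ℕ) (h : x ^ m = y) (h' : y ^ m' = x) : fix Ω x = fix Ω y := by
  refine Nat.card_congr (Equiv.setCongr (Set.ext fun p => ⟨fun hp => ?_, fun hp => ?_⟩))
  · show y • p = p
    rw [← h]
    exact smul_pow_eq x p hp m
  · show x • p = p
    rw [← h']
    exact smul_pow_eq y p hp m'

theorem eq_one_of_fix [Finite Ω] [FaithfulSMul G Ω] (g : G) (h : fix Ω g = Nat.card Ω) : g = 1 := by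
  refine eq_of_smul_eq_smul fun p : Ω => ?_
  rw [one_smul]
  by_contra hp
  exact (Finite.card_subtype_lt (p := fun q => q ∈ fixedBy Ω g) (x := p) hp).ne h

theorem sum_fix [Finite Ω] (P : Subgroup G) (φ : ℕ) (hφ : ∀ x ∈ P, x ≠ 1 → fix Ω x = φ) [Fintype ↥P] :
    (∑ x : ↥P, fix Ω x) = Nat.card Ω + (Nat.card ↥P - 1) * φ := by
  classical
  rw [← Finset.add_sum_erase Finset.univ _ (Finset.mem_univ (1 : ↥P)),
    Finset.sum_congr rfl (g := fun _ => φ) (fun x hx => ?_), Finset.sum_const,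
    Finset.card_erase_of_mem (Finset.mem_univ _), Finset.card_univ, Nat.card_eq_fintype_card (α := ↥P),
    smul_eq_mul]
  · congr 1
    exact Nat.card_congr (Equiv.subtypeUnivEquiv fun p => one_smul ↥P p)
  · have h1 : x ≠ 1 := (Finset.mem_erase.1 hx).1
    exact hφ x x.2 fun e => h1 (Subtype.ext e)

theorem card_dvd [Finite G] [Finite Ω] (P : Subgroup G) (φ : ℕ) (hφ : ∀ x ∈ P, x ≠ 1 → fix Ω x = φ) :
    Nat.card ↥P ∣ Nat.card Ω + (Nat.card ↥P - 1) * φ := by
  classical
  letI : Fintype ↥P := Fintype.ofFinite _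
  letI : Fintype Ω := Fintype.ofFinite _
  rw [← sum_fix P φ hφ]
  simp only [fix, Nat.card_eq_fintype_card]
  have := MulAction.sum_card_fixedBy_eq_card_orbits_mul_card_group ↥P Ω
  exact ⟨Fintype.card (Quotient (orbitRel ↥P Ω)), by rw [mul_comm]; convert this⟩

theorem add_le_mul [Finite G] [Finite Ω] (P : Subgroup G) (φ c : ℕ) (hφ : ∀ x ∈ P, x ≠ 1 → fix Ω x = φ)
    (hc : ∀ p : Ω, Nat.card ↥(MulAction.stabilizer ↥P p) ≤ c) :
    Nat.card Ω + (Nat.card ↥P - 1) * φ ≤ c * Nat.card Ω := by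
  classical
  letI : Fintype ↥P := Fintype.ofFinite _
  letI : Fintype Ω := Fintype.ofFinite _
  rw [← sum_fix P φ hφ]
  have h1 : ∀ x : ↥P, fix Ω x = (Finset.univ.filter fun p : Ω => x • p = p).card := fun x => by
    rw [fix, Nat.card_eq_fintype_card, ← Fintype.card_subtype]
    exact Fintype.card_congr (Equiv.refl _)
  calc (∑ x : ↥P, fix Ω x) = ∑ x : ↥P, ∑ p : Ω, (if x • p = p then 1 else 0) := by
        simp only [h1, Finset.card_filter]
    _ = ∑ p : Ω, ∑ x : ↥P, (if x • p = p then 1 else 0) := Finset.sum_comm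
    _ ≤ ∑ _p : Ω, c := Finset.sum_le_sum fun p _ => by
        rw [← Finset.card_filter, ← Fintype.card_subtype]
        refine le_trans (le_of_eq ?_) (hc p)
        rw [Nat.card_eq_fintype_card]
        exact Fintype.card_congr (Equiv.refl _)
    _ = c * Nat.card Ω := by
        rw [Finset.sum_const, Finset.card_univ, smul_eq_mul, mul_comm, Nat.card_eq_fintype_card]

theorem fix_of_two [Finite Ω] (S : Set Ω) (hS : Nat.card ↥S = 2) (g : G) (hg : ∀ p ∈ S, g • p ∈ S) (k : ℕ)
    (hk : g ^ (2 * k + 1) = 1) {p : Ω} (hp : p ∈ S) : g • p = p := by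
  by_contra hne
  have h2 : g • g • p = p := by
    by_contra h2
    rcases eq_or_ne (g • g • p) (g • p) with h | h
    · exact hne (smul_left_cancel g h)
    · have h3 : ({p, g • p, g • g • p} : Set Ω).ncard = 3 :=
        Set.ncard_eq_three.2 ⟨_, _, _, Ne.symm hne, Ne.symm h2, Ne.symm h, rfl⟩
      have hle : ({p, g • p, g • g • p} : Set Ω).ncard ≤ S.ncard := Set.ncard_le_ncard (by
        rintro x (rfl | rfl | rfl)
        exacts [hp, hg _ hp, hg _ (hg _ hp)]) (Set.toFinite _)
      rw [← Nat.card_coe_set_eq S, hS] at hle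
      omega
  have h4 : (g ^ (2 * k + 1)) • p = g • p := by
    rw [pow_succ', mul_smul, pow_mul, smul_pow_eq (g ^ 2) p (by rw [sq, mul_smul]; exact h2)]
  rw [hk, one_smul] at h4
  exact hne h4.symm

theorem card_mul_stabilizer [Finite G] [IsPretransitive G Ω] (p : Ω) :
    Nat.card Ω * Nat.card ↥(stabilizer G p) = Nat.card G := by
  rw [← index_stabilizer_of_transitive G p, Subgroup.index_mul_card]

theorem transitive_dvd [Finite G] [Finite Ω] (h : IsMultiplyPretransitive G Ω 2) (h2 : 2 ≤ Nat.card Ω) :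
    Nat.card Ω * (Nat.card Ω - 1) ∣ Nat.card G := by
  classical
  letI : Fintype Ω := Fintype.ofFinite _
  haveI : IsPretransitive G (Fin 2 ↪ Ω) := h
  have hcard : Nat.card (Fin 2 ↪ Ω) = Nat.card Ω * (Nat.card Ω - 1) := by
    rw [Nat.card_eq_fintype_card, Fintype.card_embedding_eq, Fintype.card_fin, Nat.card_eq_fintype_card,
      Nat.descFactorial_succ, Nat.descFactorial_one, mul_comm]
  haveI : Nonempty (Fin 2 ↪ Ω) := by
    rw [← not_isEmpty_iff]
    intro he
    rw [Nat.card_of_isEmpty, eq_comm, mul_eq_zero] at hcard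
    omega
  obtain ⟨e⟩ : Nonempty (Fin 2 ↪ Ω) := inferInstance
  rw [← hcard, ← card_mul_stabilizer (G := G) e]
  exact dvd_mul_right _ _

end Cfsg.Agent.ChevSmall.FixCount
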