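/-!
Data for the Sylow subgroups at three and five of the derived subgroup of the twisted group of type F4 over
two elements: words, conjugating words and a basis among the points.
-/

namespace Cfsg.Agent.ChevSmall.Tits

/-- A basis among the points. -/
def basisIdx : List Nat :=
  [0, 1, 3, 5, 7, 11, 13, 15, 19, 21, 23, 27, 29, 31, 35, 39, 43, 47, 51, 59, 63, 67, 75, 79, 91, 93, 95, 99, 107, 111, 123, 127, 131, 139, 155, 159, 171, 187, 219, 220, 223, 227, 235, 251, 283, 347, 351, 379, 475, 479, 731, 795]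

/-- The coordinates of the unit vectors in the basis. -/
def basisCoef : List Nat :=
  [9953675300, 4786208, 89514723624, 51623513816, 1, 2, 878, 864, 888, 4, 903348406, 783, 1752, 60270, 14362624, 7033, 14156751, 12995341, 15597899, 975, 889438972, 32, 889620785, 50332621, 6375401487, 892743463, 3319267543, 19321, 83887053, 917701126746, 109037842624243, 86200175154, 824633740157, 2660143277360, 2048, 952638188651326, 1374389554045, 4191929586, 114475676590, 2588627226149, 109064710791694, 5040648039954, 223688831541806, 1089482858114339, 961187361230631, 1035239027934978, 16777216, 3377699804414957, 3413159037633517, 3659449642255341, 274877906944, 1125899906842624]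

/-- An element of order five. -/
def fiveU : List Nat :=
  [3, 2, 2, 3]

/-- An element of order five commuting with it. -/
def fiveV : List Nat :=
  [2, 2, 2, 1, 3, 3, 3, 1, 2, 3, 3, 3, 1, 0, 3, 3, 1, 0, 1, 0, 3, 2, 2, 1, 0, 2, 2, 2, 1, 0, 1, 0, 1, 2, 2, 0, 2, 3, 0, 1, 2, 1, 2, 0]

/-- An element of order three. -/
def threeA : List Nat :=
  [1, 3, 3, 3, 1, 0, 2, 2, 2, 0, 3, 3, 2, 1, 0, 2, 3, 3, 2, 1, 0, 2, 2, 3]

/-- An element of order three. -/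
def threeB : List Nat :=
  [1, 3, 3, 3, 0, 1, 3, 3, 3, 1, 3, 2, 1, 2, 3, 3, 2, 1, 2, 2, 2, 0, 2, 2, 2, 0, 2, 0, 1, 2]

/-- A central element of order three. -/
def threeZ : List Nat :=
  [0, 1]

/-- An element of order three normalising the subgroup of order twenty-five. -/
def normThree : List Nat :=
  [2, 2, 2, 1, 0, 2, 2, 2, 1, 3, 3, 3, 1, 0, 2, 0, 3, 3, 2, 0, 1, 2, 0]

/-- The exponent of the commutator. -/
def commThree : Nat :=
  2

/-- The index of the image of the first generator. -/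
def normImage : Nat :=
  17

/-- A point in a regular orbit. -/
def fiveProbe : Nat :=
  1

/-- Representatives of the cyclic subgroups, with conjugating words and exponents. -/
def fiveLines : List (Nat × List Nat × Nat) :=
  [(5, [], 1),
   (1, [3, 3, 3, 0, 1, 2, 2, 2, 0, 2, 2, 2, 0, 3, 3, 3, 2, 3, 0, 1, 3, 2, 0, 1, 0], 1),
   (6, [0, 1, 0, 3, 2, 2, 3, 3, 3, 1, 0, 1], 3),
   (11, [3, 3, 3, 1, 0, 1, 3, 1, 2, 0, 2, 0, 2, 2, 0, 3, 2, 1, 0], 2),
   (16, [1, 0, 3, 3, 3, 2, 2, 2, 3, 3, 3, 1, 0, 2, 2, 2, 3, 1, 3, 1, 2, 0, 1, 2], 4),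
   (21, [0, 1, 0, 3, 3, 3, 2, 2, 2, 3, 0, 2, 2, 2, 3, 1, 3, 2, 1, 0, 1, 2], 2)]

/-- A point in a regular orbit. -/
def threeProbe : Nat :=
  0

/-- Representatives of the cyclic subgroups, with conjugating words and exponents. -/
def threeLines : List (Nat × List Nat × Nat) :=
  [(1, [], 1),
   (9, [2, 2, 2, 3, 3, 0, 1, 2, 2, 3, 3, 0, 1, 3, 3, 2], 2),
   (10, [2, 2, 2, 0, 1, 2, 3, 1, 0, 2, 1, 2, 3], 1),
   (11, [3, 3, 3, 1, 3, 1, 0, 3, 3, 2, 1, 0, 2], 2),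
   (3, [3, 3, 3, 1, 3, 3, 2, 0, 3, 1, 2, 2, 0, 3, 3, 2], 2),
   (4, [3, 3, 3, 1, 3, 0, 2, 1, 0, 2, 1, 2, 3], 1),
   (5, [2, 2, 2, 0, 2, 0, 1, 3, 3, 2, 0, 1, 3], 2),
   (12, [1, 0, 3, 3, 3, 1, 3, 3, 3, 2, 2, 2, 0, 1, 3, 1, 3, 1, 0, 2, 3, 0, 2, 3, 3], 2),
   (13, [2, 2, 2, 3, 2, 2, 0, 1, 0, 3, 2, 2, 2, 3, 2], 2),
   (14, [2, 2, 2, 0, 2, 2, 1, 3, 3, 3, 0, 1, 0, 3, 3, 1, 3, 2, 2, 0, 1, 0, 2], 1),
   (21, [2, 2, 2, 0, 3, 2, 2, 2, 1, 0, 2, 1, 3, 0, 1, 2, 2, 1, 3], 2),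
   (22, [3, 3, 3, 1, 3, 3, 2, 2, 0, 1, 0, 3, 1, 2, 2, 2, 3], 1),
   (23, [2, 2, 2, 0, 3, 2, 2, 2, 0, 1, 3, 3, 3, 2, 2, 0, 1, 3, 0, 2, 2, 3], 1)]

end Cfsg.Agent.ChevSmall.Tits
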