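import Cfsg.Agent.ChevSmall.TitsTab
import Cfsg.Agent.ChevSmall.TitsSylowData

/-!
Checks for the subgroups of order twenty-five and twenty-seven of the derived subgroup of the twisted group
of type F4 over two elements.
-/

set_option autoImplicit false

namespace Cfsg.Agent.ChevSmall.Tits

/-- A repeated word. -/
def repW (n : ℕ) (w : List ℕ) : List ℕ := (List.replicate n w).flatten

/-- Two words agree on the basis points. -/
def sameP (w w' : List ℕ) : Bool := basisIdx.all fun i => permW w i == permW w' i

/-- An element of the subgroup of order twenty-five. -/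
def fiveW (i : ℕ) : List ℕ := repW (i / 5) fiveU ++ repW (i % 5) fiveV

/-- An element of the subgroup of order twenty-seven. -/
def threeW (i : ℕ) : List ℕ := repW (i / 9) threeA ++ (repW (i / 3 % 3) threeB ++ repW (i % 3) threeZ)

/-- A word in the derived subgroup. -/
def wordOKD (w : List ℕ) : Bool := (w.all fun x => decide (x < 4)) && (w.countP (fun x => decide (2 ≤ x)) % 2 == 0)

/-- The check of the cyclic subgroups. -/
def linesOK (W : ℕ → List ℕ) (size p : ℕ) (u : List ℕ) (probe : ℕ) (lines : List (ℕ × List ℕ × ℕ)) : Bool :=
  (lines.all fun l => decide (l.1 < size) && decide (0 < l.2.2) && decide (l.2.2 < p) && wordOKD l.2.1 &&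
    sameP (l.2.1 ++ W l.1) (repW l.2.2 u ++ l.2.1)) &&
  ((List.range size).all fun i => i == 0 || lines.any fun l => (List.range p).any fun m =>
    (permW (repW m (W l.1)) probe == permW (W i) probe) &&
      ((List.range p).any fun m' => permW (repW m' (W i)) probe == permW (W l.1) probe))

theorem basis_ok : basisIdx.length = 52 ∧ (∀ i ∈ basisIdx, i < 1755) ∧
    ((List.range 52).all fun i => appL (basisIdx.map ptN) (basisCoef.getD i 0) 0 == 2 ^ i) = true := by
  decide +kernel

theorem sylow_words : wordOKD fiveU = true ∧ wordOKD fiveV = true ∧ wordOKD threeA = true ∧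
    wordOKD threeB = true ∧ wordOKD threeZ = true ∧ wordOKD normThree = true ∧ commThree < 3 ∧
    normImage < 25 ∧ fiveProbe < 1755 ∧ threeProbe < 1755 := by decide +kernel

theorem five_rel : sameP (repW 5 fiveU) [] = true ∧ sameP (repW 5 fiveV) [] = true ∧
    sameP (fiveV ++ fiveU) (fiveU ++ fiveV) = true ∧ sameP (repW 3 normThree) [] = true ∧
    sameP (normThree ++ fiveU) (fiveW normImage ++ normThree) = true := by decide +kernel

theorem three_rel : sameP (repW 3 threeA) [] = true ∧ sameP (repW 3 threeB) [] = true ∧
    sameP (repW 3 threeZ) [] = true ∧ sameP (threeZ ++ threeA) (threeA ++ threeZ) = true ∧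
    sameP (threeZ ++ threeB) (threeB ++ threeZ) = true ∧
    sameP (threeB ++ threeA) (threeA ++ (threeB ++ repW commThree threeZ)) = true := by decide +kernel

theorem five_distinct : ((List.range 25).map fun i => permW (fiveW i) fiveProbe).Nodup := by decide +kernel

theorem three_distinct : ((List.range 27).map fun i => permW (threeW i) threeProbe).Nodup := by decide +kernel

theorem five_lines : linesOK fiveW 25 5 fiveU fiveProbe fiveLines = true := by decide +kernel

theorem three_lines : linesOK threeW 27 3 threeZ threeProbe threeLines = true := by decide +kernel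

end Cfsg.Agent.ChevSmall.Tits
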