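import Cfsg.Agent.ChevSmall.Tits
import Cfsg.Agent.ChevSmall.TitsSylowTab
import Cfsg.Agent.ChevSmall.FixCount

/-!
The derived subgroup of the twisted group of type F4 over two elements has no faithful doubly transitive
action: the possible degrees are excluded by counting fixed points of Sylow subgroups at three and five.
-/

set_option autoImplicit false
set_option maxRecDepth 4096
set_option maxHeartbeats 400000

namespace Cfsg.Agent.ChevSmall.Tits

open Cfsg.Lie
open scoped Matrix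

attribute [local instance] finite_TG

theorem eq_of_sameP {w w' : List ℕ} (hw : ∀ k ∈ w, k < 4) (hw' : ∀ k ∈ w', k < 4)
    (h : sameP w w' = true) : wordG w = wordG w' := by
  refine Subtype.ext (Units.ext (Matrix.ext_of_mulVec_single fun j => ?_))
  show mat (wordG w) *ᵥ Pi.single j 1 = mat (wordG w') *ᵥ Pi.single j 1
  obtain ⟨hlen, hlt, hb⟩ := basis_ok
  simp only [List.all_eq_true, List.mem_range, beq_iff_eq] at hb
  have hj := hb _ (dim_eq ▸ Chev.code_lt chevF4 j)
  rw [← vecOf_two_pow, ← hj, vecOf_appL, vecOf_zero, zero_add, Matrix.mulVec_sum, Matrix.mulVec_sum]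
  refine Finset.sum_congr rfl fun c hc => ?_
  have hc' : c < basisIdx.length := by simpa using hc
  split
  · rw [List.getD_eq_getElem _ _ (by simpa using hc'), List.getElem_map]
    have hmem : basisIdx[c] ∈ basisIdx := List.getElem_mem hc'
    simp only [sameP, List.all_eq_true, beq_iff_eq] at h
    obtain ⟨a, e⟩ := permW_spec hw ⟨_, hlt _ hmem⟩
    obtain ⟨a', e'⟩ := permW_spec hw' ⟨_, hlt _ hmem⟩
    show mat (wordG w) *ᵥ O ⟨basisIdx[c], hlt _ hmem⟩ = mat (wordG w') *ᵥ O ⟨basisIdx[c], hlt _ hmem⟩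
    rw [e, e']
    exact congrArg O (Fin.ext (h _ hmem))
  · rw [Matrix.mulVec_zero, Matrix.mulVec_zero]

theorem wordOKD_lt {w : List ℕ} (h : wordOKD w = true) : ∀ k ∈ w, k < 4 := by
  simp only [wordOKD, Bool.and_eq_true, List.all_eq_true, decide_eq_true_eq] at h
  exact h.1

theorem mem_derived {w : List ℕ} (h : wordOKD w = true) : wordG w ∈ commutator TG := by
  have hlt := wordOKD_lt h
  simp only [wordOKD, Bool.and_eq_true, beq_iff_eq] at h
  let π : TG →* Abelianization TG := Abelianization.of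
  obtain ⟨h0, h1, h3, h22⟩ : π (genG 0) = 1 ∧ π (genG 1) = 1 ∧ π (genG 3) = π (genG 2) ∧
      π (genG 2) * π (genG 2) = 1 := abel_gens
  have key : ∀ v : List ℕ, (∀ k ∈ v, k < 4) →
      π (wordG v) = π (genG 2) ^ v.countP (fun x => decide (2 ≤ x)) := by
    intro v
    induction v with
    | nil => intro _; simp [wordG]
    | cons k v ih =>
      intro hv
      have hk := hv k List.mem_cons_self
      rw [show wordG (k :: v) = genG k * wordG v by simp [wordG], map_mul,
        ih fun x hx => hv x (List.mem_cons_of_mem _ hx)]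
      interval_cases k <;> simp [List.countP_cons, h0, h1, h3, pow_succ']
  rw [← Abelianization.ker_of, MonoidHom.mem_ker]
  show π (wordG w) = 1
  rw [key w hlt, ← Nat.div_add_mod (List.countP _ w) 2, h.2, add_zero, pow_mul, sq, h22, one_pow]

/-- The derived subgroup. -/
abbrev DG : Type := ↥(commutator TG)

/-- An element given by an even word. -/
noncomputable def wD (w : List ℕ) (h : wordOKD w = true) : DG := ⟨wordG w, mem_derived h⟩

theorem coe_wD (w : List ℕ) (h : wordOKD w = true) : ((wD w h : DG) : TG) = wordG w := rfl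

theorem wordG_repW (n : ℕ) (w : List ℕ) : wordG (repW n w) = wordG w ^ n := by
  induction n with
  | zero => simp [repW, wordG]
  | succ n ih =>
    rw [pow_succ', ← ih, repW, repW, List.replicate_succ, List.flatten_cons, wordG_append]

theorem repW_lt (n : ℕ) {w : List ℕ} (hw : ∀ k ∈ w, k < 4) : ∀ k ∈ repW n w, k < 4 := by
  intro x hx
  obtain ⟨l, hl, hx⟩ := List.mem_flatten.1 hx
  rw [(List.mem_replicate.1 hl).2] at hx
  exact hw x hx

theorem append_lt {v w : List ℕ} (hv : ∀ k ∈ v, k < 4) (hw : ∀ k ∈ w, k < 4) : ∀ k ∈ v ++ w, k < 4 :=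
  fun k hk => (List.mem_append.1 hk).elim (hv k) (hw k)

/-- Equal images of a probe point force equal indices. -/
theorem probe_inj {W : ℕ → List ℕ} {size probe : ℕ} (hp : probe < 1755)
    (hn : ((List.range size).map fun i => permW (W i) probe).Nodup) {i j : ℕ} (hi : i < size) (hj : j < size)
    {v v' : List ℕ} (hv : ∀ k ∈ v, k < 4) (hv' : ∀ k ∈ v', k < 4) (ei : wordG v = wordG (W i))
    (ej : wordG v' = wordG (W j)) (hWi : ∀ k ∈ W i, k < 4) (hWj : ∀ k ∈ W j, k < 4)
    (h : permW v probe = permW v' probe) : i = j := by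
  have key : ∀ (l : ℕ) (u : List ℕ), (∀ k ∈ u, k < 4) → (∀ k ∈ W l, k < 4) → wordG u = wordG (W l) →
      permW u probe = permW (W l) probe := by
    intro l u hu hl e
    obtain ⟨a, e1⟩ := permW_spec hu ⟨probe, hp⟩
    obtain ⟨b, e2⟩ := permW_spec hl ⟨probe, hp⟩
    rw [e] at e1
    exact congrArg Fin.val (O_injective (e1.symm.trans e2))
  exact List.inj_on_of_nodup_map hn (List.mem_range.2 hi) (List.mem_range.2 hj)
    ((key i v hv hWi ei).symm.trans (h.trans (key j v' hv' hWj ej)))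

/-- In a small subgroup listed by words all non-identity elements fix equally many points. -/
theorem fix_eq_of_lines {Ω : Type*} [MulAction DG Ω] [Finite Ω] {W : ℕ → List ℕ} {size p probe : ℕ}
    {u : List ℕ} {lines : List (ℕ × List ℕ × ℕ)} (hu : wordOKD u = true) (hp : probe < 1755)
    (hn : ((List.range size).map fun i => permW (W i) probe).Nodup) (hlt : ∀ i, ∀ k ∈ W i, k < 4)
    (e : ℕ → DG) (he : ∀ i, ((e i : DG) : TG) = wordG (W i))
    (hpow : ∀ i < size, ∀ m, ∃ j < size, e j = e i ^ m) (hup : (wD u hu) ^ p = 1)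
    (hinv : ∀ k < p, 0 < k → ∃ k', k * k' % p = 1)
    (hl : linesOK W size p u probe lines = true) {i : ℕ} (hi : i < size) (hi0 : i ≠ 0) :
    FixCount.fix Ω (e i) = FixCount.fix Ω (wD u hu) := by
  simp only [linesOK, Bool.and_eq_true, List.all_eq_true, List.any_eq_true, List.mem_range, Bool.or_eq_true,
    beq_iff_eq, decide_eq_true_eq] at hl
  obtain ⟨hl1, hl2⟩ := hl
  obtain ⟨l, hlmem, m, hm, hm1, m', hm', hm2⟩ := (hl2 i hi).resolve_left hi0
  obtain ⟨⟨⟨⟨hls, hk0⟩, hkp⟩, hg⟩, hsame⟩ := hl1 l hlmem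
  have pw : ∀ {a b c : ℕ}, a < size → b < size → permW (repW c (W a)) probe = permW (W b) probe →
      e a ^ c = e b := by
    intro a b c ha hb h
    obtain ⟨j, hj, ej⟩ := hpow a ha c
    have : j = b := probe_inj hp hn hj hb (repW_lt c (hlt a)) (hlt b)
      (by rw [wordG_repW, ← he a, ← he j, ej]; rfl) rfl (hlt j) (hlt b) h
    rw [← ej, this]
  rw [← FixCount.fix_eq_of_pow (e l.1) (e i) m m' (pw hls hi hm1) (pw hi hls hm2)]
  have hgl := wordOKD_lt hg
  have eq := eq_of_sameP (append_lt hgl (hlt l.1)) (append_lt (repW_lt _ (wordOKD_lt hu)) hgl) hsame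
  rw [wordG_append, wordG_append, wordG_repW, ← he] at eq
  have e2 : wD l.2.1 hg * e l.1 * (wD l.2.1 hg)⁻¹ = (wD u hu) ^ l.2.2 := by
    rw [mul_inv_eq_iff_eq_mul]
    exact Subtype.ext eq
  rw [← FixCount.fix_conj (wD l.2.1 hg) (e l.1), e2]
  obtain ⟨k', hk'⟩ := hinv _ hkp hk0
  refine (FixCount.fix_eq_of_pow _ _ l.2.2 k' rfl ?_).symm
  rw [← pow_mul, ← Nat.div_add_mod (l.2.2 * k') p, hk', pow_succ, pow_mul, hup, one_pow, one_mul]

/-! ### The subgroup of order twenty-five -/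

/-- The first generator. -/
noncomputable def U5 : DG := wD fiveU sylow_words.1

/-- The second generator. -/
noncomputable def V5 : DG := wD fiveV sylow_words.2.1

theorem five_rels : U5 ^ 5 = 1 ∧ V5 ^ 5 = 1 ∧ Commute V5 U5 := by
  obtain ⟨h1, h2, h3, -⟩ := five_rel
  have hu := wordOKD_lt sylow_words.1
  have hv := wordOKD_lt sylow_words.2.1
  refine ⟨Subtype.ext ?_, Subtype.ext ?_, Subtype.ext ?_⟩
  · rw [SubgroupClass.coe_pow, U5, coe_wD, ← wordG_repW, eq_of_sameP (repW_lt 5 hu) (by simp) h1]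
    rfl
  · rw [SubgroupClass.coe_pow, V5, coe_wD, ← wordG_repW, eq_of_sameP (repW_lt 5 hv) (by simp) h2]
    rfl
  · rw [Subgroup.coe_mul, Subgroup.coe_mul, U5, V5, coe_wD, coe_wD, ← wordG_append, ← wordG_append]
    exact eq_of_sameP (append_lt hv hu) (append_lt hu hv) h3

/-- An element of the subgroup of order twenty-five. -/
noncomputable def e5 (i : ℕ) : DG := U5 ^ (i / 5) * V5 ^ (i % 5)

theorem coe_e5 (i : ℕ) : ((e5 i : DG) : TG) = wordG (fiveW i) := by
  rw [e5, Subgroup.coe_mul, SubgroupClass.coe_pow, SubgroupClass.coe_pow, U5, V5, coe_wD, coe_wD, fiveW,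
    wordG_append, wordG_repW, wordG_repW]

theorem fiveW_lt (i : ℕ) : ∀ k ∈ fiveW i, k < 4 :=
  append_lt (repW_lt _ (wordOKD_lt sylow_words.1)) (repW_lt _ (wordOKD_lt sylow_words.2.1))

/-- Two commuting elements of order five give a subgroup listed by twenty-five products. -/
theorem exists_pair {G : Type*} [Group G] (u v : G) (hu : u ^ 5 = 1) (hv : v ^ 5 = 1) (hc : Commute v u) :
    ∃ P : Subgroup G, ∀ x, x ∈ P ↔ ∃ i < 25, x = u ^ (i / 5) * v ^ (i % 5) := by
  let P : Subgroup G :=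
  { carrier := {x | ∃ i j : ℕ, x = u ^ i * v ^ j}
    one_mem' := ⟨0, 0, by simp⟩
    mul_mem' := by
      rintro _ _ ⟨i, j, rfl⟩ ⟨k, l, rfl⟩
      refine ⟨i + k, j + l, ?_⟩
      calc u ^ i * v ^ j * (u ^ k * v ^ l) = u ^ i * (v ^ j * u ^ k) * v ^ l := by simp [mul_assoc]
        _ = u ^ (i + k) * v ^ (j + l) := by rw [(hc.pow_pow j k).eq]; simp [pow_add, mul_assoc]
    inv_mem' := by
      rintro _ ⟨i, j, rfl⟩
      refine ⟨4 * i, 4 * j, inv_eq_of_mul_eq_one_right ?_⟩
      calc u ^ i * v ^ j * (u ^ (4 * i) * v ^ (4 * j))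
          = u ^ i * (v ^ j * u ^ (4 * i)) * v ^ (4 * j) := by simp [mul_assoc]
        _ = u ^ (5 * i) * v ^ (5 * j) := by
          rw [(hc.pow_pow j (4 * i)).eq, show 5 * i = i + 4 * i by omega, show 5 * j = j + 4 * j by omega]
          simp [pow_add, mul_assoc]
        _ = 1 := by rw [pow_mul, pow_mul, hu, hv, one_pow, one_pow, one_mul] }
  refine ⟨P, fun x => ⟨?_, ?_⟩⟩
  · rintro ⟨i, j, rfl⟩
    refine ⟨i % 5 * 5 + j % 5, by omega, ?_⟩
    rw [show (i % 5 * 5 + j % 5) / 5 = i % 5 by omega, show (i % 5 * 5 + j % 5) % 5 = j % 5 by omega]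
    conv_lhs => rw [← Nat.div_add_mod i 5, ← Nat.div_add_mod j 5]
    rw [pow_add, pow_add, pow_mul, pow_mul, hu, hv, one_pow, one_pow, one_mul, one_mul]
  · rintro ⟨i, -, rfl⟩
    exact ⟨_, _, rfl⟩

/-- The subgroup of order twenty-five. -/
noncomputable def P5 : Subgroup DG := (exists_pair U5 V5 five_rels.1 five_rels.2.1 five_rels.2.2).choose

theorem mem_P5 {x : DG} : x ∈ P5 ↔ ∃ i < 25, x = e5 i :=
  (exists_pair U5 V5 five_rels.1 five_rels.2.1 five_rels.2.2).choose_spec x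

theorem e5_mem (i : ℕ) (hi : i < 25) : e5 i ∈ P5 := mem_P5.2 ⟨i, hi, rfl⟩

theorem e5_inj {i j : ℕ} (hi : i < 25) (hj : j < 25) (h : e5 i = e5 j) : i = j := by
  refine probe_inj sylow_words.2.2.2.2.2.2.2.2.1 five_distinct hi hj (fiveW_lt i) (fiveW_lt i) rfl ?_
    (fiveW_lt i) (fiveW_lt j) rfl
  rw [← coe_e5, ← coe_e5, h]

theorem card_P5 : Nat.card ↥P5 = 25 := by
  rw [← Nat.card_eq_of_bijective (fun i : Fin 25 => (⟨e5 i.val, mem_P5.2 ⟨i, i.2, rfl⟩⟩ : ↥P5))
    ⟨fun i j h => Fin.ext (e5_inj i.2 j.2 (congrArg Subtype.val h :)), fun x => ?_⟩, Nat.card_fin]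
  obtain ⟨i, hi, e⟩ := mem_P5.1 x.2
  exact ⟨⟨i, hi⟩, Subtype.ext e.symm⟩

theorem fix_P5 {Ω : Type*} [MulAction DG Ω] [Finite Ω] (x : DG) (hx : x ∈ P5) (hx1 : x ≠ 1) :
    FixCount.fix Ω x = FixCount.fix Ω U5 := by
  obtain ⟨i, hi, rfl⟩ := mem_P5.1 hx
  refine fix_eq_of_lines sylow_words.1 sylow_words.2.2.2.2.2.2.2.2.1 five_distinct fiveW_lt e5 coe_e5
    (fun a ha m => ?_) five_rels.1 (fun k hk hk0 => ?_) five_lines hi fun h => hx1 (by simp [h, e5])
  · obtain ⟨j, hj, e⟩ := mem_P5.1 (pow_mem (mem_P5.2 ⟨a, ha, rfl⟩) m)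
    exact ⟨j, hj, e.symm⟩
  · interval_cases k
    exacts [⟨1, rfl⟩, ⟨3, rfl⟩, ⟨2, rfl⟩, ⟨4, rfl⟩]

/-! ### The subgroup of order twenty-seven -/

/-- The first generator. -/
noncomputable def A3 : DG := wD threeA sylow_words.2.2.1

/-- The second generator. -/
noncomputable def B3 : DG := wD threeB sylow_words.2.2.2.1

/-- The central generator. -/
noncomputable def Z3 : DG := wD threeZ sylow_words.2.2.2.2.1

theorem three_rels : A3 ^ 3 = 1 ∧ B3 ^ 3 = 1 ∧ Z3 ^ 3 = 1 ∧ Commute Z3 A3 ∧ Commute Z3 B3 ∧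
    B3 * A3 = A3 * (B3 * Z3 ^ commThree) := by
  obtain ⟨h1, h2, h3, h4, h5, h6⟩ := three_rel
  have ha := wordOKD_lt sylow_words.2.2.1
  have hb := wordOKD_lt sylow_words.2.2.2.1
  have hz := wordOKD_lt sylow_words.2.2.2.2.1
  refine ⟨Subtype.ext ?_, Subtype.ext ?_, Subtype.ext ?_, Subtype.ext ?_, Subtype.ext ?_, Subtype.ext ?_⟩
  · rw [SubgroupClass.coe_pow, A3, coe_wD, ← wordG_repW, eq_of_sameP (repW_lt 3 ha) (by simp) h1]
    rfl
  · rw [SubgroupClass.coe_pow, B3, coe_wD, ← wordG_repW, eq_of_sameP (repW_lt 3 hb) (by simp) h2]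
    rfl
  · rw [SubgroupClass.coe_pow, Z3, coe_wD, ← wordG_repW, eq_of_sameP (repW_lt 3 hz) (by simp) h3]
    rfl
  · rw [Subgroup.coe_mul, Subgroup.coe_mul, A3, Z3, coe_wD, coe_wD, ← wordG_append, ← wordG_append]
    exact eq_of_sameP (append_lt hz ha) (append_lt ha hz) h4
  · rw [Subgroup.coe_mul, Subgroup.coe_mul, B3, Z3, coe_wD, coe_wD, ← wordG_append, ← wordG_append]
    exact eq_of_sameP (append_lt hz hb) (append_lt hb hz) h5
  · rw [Subgroup.coe_mul, Subgroup.coe_mul, Subgroup.coe_mul, SubgroupClass.coe_pow, A3, B3, Z3, coe_wD,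
      coe_wD, coe_wD, ← wordG_repW, ← wordG_append, ← wordG_append, ← wordG_append]
    exact eq_of_sameP (append_lt hb ha) (append_lt ha (append_lt hb (repW_lt _ hz))) h6

/-- An element of the subgroup of order twenty-seven. -/
noncomputable def e3 (i : ℕ) : DG := A3 ^ (i / 9) * (B3 ^ (i / 3 % 3) * Z3 ^ (i % 3))

theorem coe_e3 (i : ℕ) : ((e3 i : DG) : TG) = wordG (threeW i) := by
  rw [e3, Subgroup.coe_mul, Subgroup.coe_mul, SubgroupClass.coe_pow, SubgroupClass.coe_pow,
    SubgroupClass.coe_pow, A3, B3, Z3, coe_wD, coe_wD, coe_wD, threeW, wordG_append, wordG_append,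
    wordG_repW, wordG_repW, wordG_repW]

theorem threeW_lt (i : ℕ) : ∀ k ∈ threeW i, k < 4 :=
  append_lt (repW_lt _ (wordOKD_lt sylow_words.2.2.1))
    (append_lt (repW_lt _ (wordOKD_lt sylow_words.2.2.2.1)) (repW_lt _ (wordOKD_lt sylow_words.2.2.2.2.1)))

/-- Three elements of order three with a central commutator give a subgroup listed by twenty-seven products. -/
theorem exists_triple {G : Type*} [Group G] (a b z : G) (c : ℕ) (ha : a ^ 3 = 1) (hb : b ^ 3 = 1)
    (hz : z ^ 3 = 1) (hza : Commute z a) (hzb : Commute z b) (hba : b * a = a * (b * z ^ c)) :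
    ∃ P : Subgroup G, ∀ x, x ∈ P ↔ ∃ i < 27, x = a ^ (i / 9) * (b ^ (i / 3 % 3) * z ^ (i % 3)) := by
  have h1 : ∀ i, b * a ^ i = a ^ i * (b * z ^ (c * i)) := by
    intro i
    induction i with
    | zero => simp
    | succ i ih =>
      calc b * a ^ (i + 1) = b * a ^ i * a := by rw [pow_succ, mul_assoc]
        _ = a ^ i * (b * (z ^ (c * i) * a)) := by rw [ih]; simp [mul_assoc]
        _ = a ^ i * (b * a * z ^ (c * i)) := by rw [(hza.pow_left (c * i)).eq]; simp [mul_assoc]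
        _ = a ^ (i + 1) * (b * z ^ (c * (i + 1))) := by
          rw [hba, pow_succ, Nat.mul_succ, add_comm (c * i), pow_add]; simp [mul_assoc]
  have move : ∀ i j : ℕ, b ^ j * a ^ i = a ^ i * (b ^ j * z ^ (c * i * j)) := by
    intro i j
    induction j with
    | zero => simp
    | succ j ih =>
      calc b ^ (j + 1) * a ^ i = b ^ j * (b * a ^ i) := by rw [pow_succ, mul_assoc]
        _ = b ^ j * a ^ i * (b * z ^ (c * i)) := by rw [h1, mul_assoc]
        _ = a ^ i * (b ^ j * (z ^ (c * i * j) * b) * z ^ (c * i)) := by rw [ih]; simp [mul_assoc]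
        _ = a ^ i * (b ^ (j + 1) * z ^ (c * i * (j + 1))) := by
          rw [(hzb.pow_left (c * i * j)).eq, pow_succ, Nat.mul_succ, pow_add]; simp [mul_assoc]
  let S : Set G := {x | ∃ i j k : ℕ, x = a ^ i * (b ^ j * z ^ k)}
  have hmul : ∀ {x y : G}, x ∈ S → y ∈ S → x * y ∈ S := by
    rintro _ _ ⟨i, j, k, rfl⟩ ⟨i', j', k', rfl⟩
    refine ⟨i + i', j + j', c * i' * j + k + k', ?_⟩
    calc a ^ i * (b ^ j * z ^ k) * (a ^ i' * (b ^ j' * z ^ k'))
        = a ^ i * (b ^ j * (z ^ k * a ^ i') * (b ^ j' * z ^ k')) := by simp [mul_assoc]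
      _ = a ^ i * (b ^ j * a ^ i' * (z ^ k * b ^ j') * z ^ k') := by
        rw [(hza.pow_pow k i').eq]; simp [mul_assoc]
      _ = a ^ i * (a ^ i' * (b ^ j * ((z ^ (c * i' * j) * b ^ j') * z ^ k))) * z ^ k' := by
        rw [(hzb.pow_pow k j').eq, move]; simp [mul_assoc]
      _ = a ^ (i + i') * (b ^ (j + j') * z ^ (c * i' * j + k + k')) := by
        rw [(hzb.pow_pow (c * i' * j) j').eq, pow_add, pow_add, pow_add, pow_add]; simp [mul_assoc]
  let P : Subgroup G :=
  { carrier := S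
    one_mem' := ⟨0, 0, 0, by simp⟩
    mul_mem' := hmul
    inv_mem' := by
      rintro _ ⟨i, j, k, rfl⟩
      have hinv : ∀ (y : G) (n : ℕ), y ^ 3 = 1 → (y ^ n)⁻¹ = y ^ (2 * n) := fun y n hy => by
        rw [inv_eq_iff_mul_eq_one, ← pow_add, show n + 2 * n = 3 * n by omega, pow_mul, hy, one_pow]
      rw [mul_inv_rev, mul_inv_rev, hinv _ _ ha, hinv _ _ hb, hinv _ _ hz]
      exact hmul (hmul ⟨0, 0, 2 * k, by simp⟩ ⟨0, 2 * j, 0, by simp⟩) ⟨2 * i, 0, 0, by simp⟩ }
  refine ⟨P, fun x => ⟨?_, ?_⟩⟩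
  · rintro ⟨i, j, k, rfl⟩
    refine ⟨i % 3 * 9 + j % 3 * 3 + k % 3, by omega, ?_⟩
    rw [show (i % 3 * 9 + j % 3 * 3 + k % 3) / 9 = i % 3 by omega,
      show (i % 3 * 9 + j % 3 * 3 + k % 3) / 3 % 3 = j % 3 by omega,
      show (i % 3 * 9 + j % 3 * 3 + k % 3) % 3 = k % 3 by omega]
    conv_lhs => rw [← Nat.div_add_mod i 3, ← Nat.div_add_mod j 3, ← Nat.div_add_mod k 3]
    rw [pow_add, pow_add, pow_add, pow_mul, pow_mul, pow_mul, ha, hb, hz, one_pow, one_pow, one_pow, one_mul,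
      one_mul, one_mul]
  · rintro ⟨i, -, rfl⟩
    exact ⟨_, _, _, rfl⟩

/-- The subgroup of order twenty-seven. -/
noncomputable def P3 : Subgroup DG :=
  (exists_triple A3 B3 Z3 commThree three_rels.1 three_rels.2.1 three_rels.2.2.1 three_rels.2.2.2.1
    three_rels.2.2.2.2.1 three_rels.2.2.2.2.2).choose

theorem mem_P3 {x : DG} : x ∈ P3 ↔ ∃ i < 27, x = e3 i :=
  (exists_triple A3 B3 Z3 commThree three_rels.1 three_rels.2.1 three_rels.2.2.1 three_rels.2.2.2.1
    three_rels.2.2.2.2.1 three_rels.2.2.2.2.2).choose_spec x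

theorem e3_inj {i j : ℕ} (hi : i < 27) (hj : j < 27) (h : e3 i = e3 j) : i = j := by
  refine probe_inj sylow_words.2.2.2.2.2.2.2.2.2 three_distinct hi hj (threeW_lt i) (threeW_lt i) rfl ?_
    (threeW_lt i) (threeW_lt j) rfl
  rw [← coe_e3, ← coe_e3, h]

theorem card_P3 : Nat.card ↥P3 = 27 := by
  rw [← Nat.card_eq_of_bijective (fun i : Fin 27 => (⟨e3 i.val, mem_P3.2 ⟨i, i.2, rfl⟩⟩ : ↥P3))
    ⟨fun i j h => Fin.ext (e3_inj i.2 j.2 (congrArg Subtype.val h :)), fun x => ?_⟩, Nat.card_fin]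
  obtain ⟨i, hi, e⟩ := mem_P3.1 x.2
  exact ⟨⟨i, hi⟩, Subtype.ext e.symm⟩

theorem fix_P3 {Ω : Type*} [MulAction DG Ω] [Finite Ω] (x : DG) (hx : x ∈ P3) (hx1 : x ≠ 1) :
    FixCount.fix Ω x = FixCount.fix Ω Z3 := by
  obtain ⟨i, hi, rfl⟩ := mem_P3.1 hx
  refine fix_eq_of_lines sylow_words.2.2.2.2.1 sylow_words.2.2.2.2.2.2.2.2.2 three_distinct threeW_lt e3 coe_e3
    (fun a ha m => ?_) three_rels.2.2.1 (fun k hk hk0 => ?_) three_lines hi fun h => hx1 (by simp [h, e3])
  · obtain ⟨j, hj, e⟩ := mem_P3.1 (pow_mem (mem_P3.2 ⟨a, ha, rfl⟩) m)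
    exact ⟨j, hj, e.symm⟩
  · interval_cases k
    exacts [⟨1, rfl⟩, ⟨2, rfl⟩]

/-! ### The degrees -/

theorem degree_cases : ∀ n < 4241, 2 ≤ n → 17971200 % (n * (n - 1)) = 0 → n < 27 ∨ n = 27 ∨ n = 40 ∨ n = 65 := by
  decide +kernel

/-- The element of order three normalising the subgroup of order twenty-five. -/
noncomputable def W3 : DG := wD normThree sylow_words.2.2.2.2.2.1

theorem W3_rels : W3 ^ 3 = 1 ∧ W3 * U5 = e5 normImage * W3 := by
  obtain ⟨-, -, -, h1, h2⟩ := five_rel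
  have hw := wordOKD_lt sylow_words.2.2.2.2.2.1
  refine ⟨Subtype.ext ?_, Subtype.ext ?_⟩
  · rw [SubgroupClass.coe_pow, W3, coe_wD, ← wordG_repW, eq_of_sameP (repW_lt 3 hw) (by simp) h1]
    rfl
  · rw [Subgroup.coe_mul, Subgroup.coe_mul, coe_e5, U5, W3, coe_wD, coe_wD, ← wordG_append, ← wordG_append]
    exact eq_of_sameP (append_lt hw (wordOKD_lt sylow_words.1)) (append_lt (fiveW_lt _) hw) h2

theorem no_two_transitive {Ω : Type*} [Finite Ω] [MulAction DG Ω] [FaithfulSMul DG Ω] (hΩ : 3 ≤ Nat.card Ω)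
    (h : MulAction.IsMultiplyPretransitive DG Ω 2) : False := by
  classical
  haveI : MulAction.IsPretransitive DG Ω := MulAction.isPretransitive_of_is_two_pretransitive
  set n := Nat.card Ω with hn
  have hdvd := FixCount.transitive_dvd h (by omega)
  rw [card_derived, ← hn] at hdvd
  have hle : n < 4241 := by
    by_contra hlt
    have h1 := Nat.le_of_dvd (by norm_num) hdvd
    have h2 : 4241 * 4240 ≤ n * (n - 1) := Nat.mul_le_mul (by omega) (by omega)
    omega
  have hcases := degree_cases n hle (by omega) (Nat.mod_eq_zero_of_dvd hdvd)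
  have hfive := FixCount.card_dvd P5 _ (fun x => fix_P5 (Ω := Ω) x)
  rw [card_P5, ← hn] at hfive
  have hU : FixCount.fix Ω U5 ≠ n := fun e => by
    have h1 : e5 5 = e5 0 := by simpa [e5] using FixCount.eq_one_of_fix U5 e
    exact absurd (e5_inj (by norm_num) (by norm_num) h1) (by norm_num)
  have hUle : FixCount.fix Ω U5 ≤ n := FixCount.fix_le _
  rcases hcases with hsmall | h27 | h40
  · have hthree := FixCount.card_dvd P3 _ (fun x => fix_P3 (Ω := Ω) x)
    rw [card_P3, ← hn] at hthree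
    have hZ : FixCount.fix Ω Z3 ≠ n := fun e => by
      have h1 : e3 1 = e3 0 := by simpa [e3] using FixCount.eq_one_of_fix Z3 e
      exact absurd (e3_inj (by norm_num) (by norm_num) h1) (by norm_num)
    have : FixCount.fix Ω Z3 ≤ n := FixCount.fix_le _
    omega
  · have hF : FixCount.fix Ω U5 = 2 := by omega
    obtain ⟨p, hp⟩ : Nonempty ↥(MulAction.fixedBy Ω U5) := (Nat.card_pos_iff.1 (by
      show 0 < FixCount.fix Ω U5
      omega)).1
    have hV : ∀ q ∈ MulAction.fixedBy Ω U5, V5 • q = q := fun q hq => by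
      refine FixCount.fix_of_two _ hF V5 (fun r hr => ?_) 2 five_rels.2.1 hq
      show U5 • V5 • r = V5 • r
      rw [← mul_smul, ← five_rels.2.2.eq, mul_smul]
      exact congrArg (V5 • ·) hr
    have hP : ∀ q ∈ MulAction.fixedBy Ω U5, ∀ i, e5 i • q = q := fun q hq i => by
      rw [e5, mul_smul, FixCount.smul_pow_eq V5 q (hV q hq), FixCount.smul_pow_eq U5 q hq]
    have hW : W3⁻¹ • p = p := by
      refine FixCount.fix_of_two _ hF _ (fun q hq => ?_) 1 ?_ hp
      · show U5 • W3⁻¹ • q = W3⁻¹ • q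
        rw [eq_inv_smul_iff, ← mul_smul, W3_rels.2, mul_smul, smul_inv_smul]
        exact hP q hq _
      · rw [inv_pow, show 2 * 1 + 1 = 3 from rfl, W3_rels.1, inv_one]
    have hne : W3 ≠ 1 := fun e => by
      have h1 : e5 5 = e5 normImage := by simpa [e, e5] using W3_rels.2
      have h2 := e5_inj (by norm_num) sylow_words.2.2.2.2.2.2.2.1 h1
      exact absurd h2 (by decide)
    have hord : orderOf W3 = 3 := by
      haveI : Fact (Nat.Prime 3) := ⟨Nat.prime_three⟩
      exact orderOf_eq_prime W3_rels.1 hne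
    have h3 := Subgroup.orderOf_dvd_natCard (MulAction.stabilizer DG p) (inv_mem_iff.1 hW : W3 ∈ _)
    have hst := FixCount.card_mul_stabilizer (G := DG) p
    rw [card_derived, ← hn, h27] at hst
    rw [hord] at h3
    omega
  · have h5 := FixCount.add_le_mul P5 _ 5 (fun x => fix_P5 (Ω := Ω) x) (fun p => by
      have hd := Subgroup.card_subgroup_dvd_card (MulAction.stabilizer ↥P5 p)
      rw [card_P5] at hd
      have hd2 : Nat.card ↥(MulAction.stabilizer ↥P5 p) ∣ Nat.card ↥(MulAction.stabilizer DG p) :=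
        Subgroup.card_dvd_of_injective
          ({ toFun := fun x => ⟨x.1.1, x.2⟩, map_one' := rfl, map_mul' := fun _ _ => rfl } :
            ↥(MulAction.stabilizer ↥P5 p) →* ↥(MulAction.stabilizer DG p))
          (fun a b e => Subtype.ext (Subtype.ext (congrArg Subtype.val e :)))
      have hst := FixCount.card_mul_stabilizer (G := DG) p
      rw [card_derived, ← hn] at hst
      obtain ⟨k, hk, e⟩ := (Nat.dvd_prime_pow (by norm_num : Nat.Prime 5)).1
        (show Nat.card ↥(MulAction.stabilizer ↥P5 p) ∣ 5 ^ 2 by simpa using hd)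
      interval_cases k
      · omega
      · omega
      · rw [e] at hd2
        obtain ⟨c, hc⟩ := hd2
        rw [hc] at hst
        rcases h40 with e40 | e40 <;> rw [e40] at hst <;> omega)
    rw [card_P5, ← hn] at h5
    omega

end Cfsg.Agent.ChevSmall.Tits
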